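import Cfsg.Agent.H80.WardCons.ReeTI

/-!
# Ree parameters force non-abelian Sylow 3-subgroups
-/

set_option autoImplicit false
set_option linter.unusedSectionVars false
set_option linter.style.haveILetI false

namespace Cfsg.Agent.H80.WardCons

open Subgroup Cfsg Cfsg.Agent Cfsg.Agent.CharBasic Cfsg.Agent.CharInduce
open Cfsg.Agent.H29.Ward
open Cfsg.Agent.H72.PiHom (ReeParam)
open scoped ComplexConjugate

universe u

/-- A character of an abelian group has norm at least its degree. -/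
theorem degree_le_norm {A : Type u} [Group A] [Fintype A] (hA : ∀ a b : A, a * b = b * a)
    {χ : A → ℂ} (hχ : IsCharacter A χ) {d : ℕ} (hd : χ 1 = d) :
    (Nat.card A : ℝ) * d ≤ ∑ a : A, ‖χ a‖ ^ 2 := by
  classical
  choose m hm using fun ψ : IrrCharacter A =>
    classInner_isChar_nat hχ (IsIrr.isCharacter ψ.2)
  have h1 : χ 1 = ((∑ ψ, m ψ : ℕ) : ℂ) := by
    conv_lhs => rw [classFunction_expansion (IsChar.isClassFunction hχ)]
    rw [Finset.sum_apply]
    push_cast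
    exact Finset.sum_congr rfl fun ψ _ => by
      rw [Pi.smul_apply, smul_eq_mul, hm, IsIrr.degree_one_of_comm hA ψ.2, mul_one]
  have h2 : classInner χ χ = ((∑ ψ, m ψ * m ψ : ℕ) : ℂ) := by
    rw [classInner_eq_sum (IsChar.isClassFunction hχ)]
    simp only [hm, map_natCast]
    push_cast
    rfl
  have h3 : d = ∑ ψ, m ψ := by
    rw [hd] at h1
    exact_mod_cast h1
  rw [classInner_self_eq] at h2
  have h4 : (Nat.card A : ℝ)⁻¹ * ∑ a : A, ‖χ a‖ ^ 2 = ((∑ ψ, m ψ * m ψ : ℕ) : ℝ) := by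
    exact_mod_cast h2
  have hA0 : (0 : ℝ) < Nat.card A := by exact_mod_cast Nat.card_pos
  have h5 : (d : ℝ) ≤ ((∑ ψ, m ψ * m ψ : ℕ) : ℝ) := by
    exact_mod_cast h3 ▸ Finset.sum_le_sum fun ψ _ => Nat.le_mul_self (m ψ)
  rw [← h4, inv_mul_eq_div, le_div_iff₀ hA0] at h5
  linarith

variable {G : Type u} [Group G] [Finite G] {F : Type} [Field F] [Fintype F] {t : G}

/-- The Sylow 3-subgroups of a group with the Ree parameters are not abelian. -/
theorem ree_false (h : Hyp G F t) (P : ReeParam G F)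
    (hab : ∀ S : Sylow 3 G, IsMulCommutative ↥(S : Subgroup G)) : False := by
  classical
  letI : Fintype G := Fintype.ofFinite G
  haveI : Fact (Nat.Prime 3) := ⟨Nat.prime_three⟩
  obtain ⟨v, -, -, -, -, f, hfpf⟩ := H79.Ward.exists_frame_fpf h (by
    intro v hv hv1 hvt hne hk
    obtain ⟨-, -, -, k3, k5⟩ := h.torusK_facts hv hv1 hvt hne
    have hb := P.big
    rcases h.mod_eight with e | e
    · have := k3 e; omega
    · have := k5 e; omega)
  obtain ⟨α, δ, ξ, e, e', hα, -⟩ := exists_rows h P f hfpf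
  set q := Fintype.card F with hq
  have hq27 : 27 ≤ q := P.big
  set d := charDegree (α : G → ℂ) with hd
  have hα1 : (α : G → ℂ) 1 = (d : ℂ) := (H83.charDegree_eq α.2).1
  -- the order of a Sylow 3-subgroup
  have hS : ∀ S : Sylow 3 G, Nat.card ↥(S : Subgroup G) = q ^ 3 := by
    intro S
    obtain ⟨m, -, hm⟩ := P.q_eq
    rw [S.card_eq_multiplicity, P.card, hq, hm]
    set Q := 3 ^ (2 * m + 1) with hQ
    have h3 : 3 ∣ Q := dvd_pow_self 3 (by omega)
    have hn1 : ¬ 3 ∣ (Q ^ 3 + 1) * (Q - 1) := fun hd => by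
      have h33 : 3 ∣ Q ^ 3 := dvd_pow h3 (by norm_num)
      have : 0 < Q := by positivity
      rcases Nat.prime_three.dvd_mul.1 hd with h4 | h4 <;> omega
    have h27 : 27 ≤ Q := by have := P.big; rw [hm] at this; exact this
    rw [mul_assoc, Nat.factorization_mul (by positivity)
        (Nat.mul_ne_zero (by positivity) (by omega)),
      Finsupp.add_apply, Nat.factorization_eq_zero_of_not_dvd hn1, add_zero,
      hQ, ← pow_mul, Nat.Prime.factorization_pow Nat.prime_three, Finsupp.single_eq_same]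
  obtain ⟨S₀⟩ : Nonempty (Sylow 3 G) := inferInstance
  haveI := h.simple
  -- a second one
  obtain ⟨S₁, hne⟩ : ∃ S₁ : Sylow 3 G, S₁ ≠ S₀ := by
    by_contra hc
    push Not at hc
    haveI : Subsingleton (Sylow 3 G) := ⟨fun a b => (hc a).trans (hc b).symm⟩
    have hc0 := hS S₀
    rcases (S₀.normal_of_subsingleton).eq_bot_or_eq_top with hb | hb <;> rw [hb] at hc0
    · rw [card_bot] at hc0
      have : q ≤ q ^ 3 := Nat.le_self_pow (by norm_num) q
      omega
    · rw [card_top, P.card, ← hq] at hc0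
      have h1 : q ^ 3 * ((q ^ 3 + 1) * (q - 1)) = q ^ 3 * 1 := by rw [mul_one, ← mul_assoc]; exact hc0
      have h2 := (Nat.mul_right_inj (pow_ne_zero 3 (by omega : q ≠ 0))).1 h1
      have : q - 1 = 1 := (mul_eq_one.1 h2).2
      omega
  have hn : q ^ 3 + 1 ≤ Nat.card (Sylow 3 G) := by
    let j : Option ↥(S₀ : Subgroup G) → Sylow 3 G := fun o => o.elim S₀ fun x => (x : G) • S₁
    have hj : Function.Injective j := by
      have hfix : ∀ x : ↥(S₀ : Subgroup G), (x : G) • S₁ ≠ S₀ := fun x e0 =>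
        hne (by rw [← inv_smul_smul (x : G) S₁, e0, Sylow.smul_eq_iff_mem_normalizer]
                exact (normalizer ((S₀ : Subgroup G) : Set G)).inv_mem (Subgroup.le_normalizer x.2))
      rintro (_ | x) (_ | y) e0
      · rfl
      · exact absurd e0.symm (hfix y)
      · exact absurd e0 (hfix x)
      · have e1 : ((x : G)⁻¹ * y) • S₁ = S₁ := by
          rw [mul_smul]; exact inv_smul_eq_iff.2 (Eq.symm e0)
        have hm : (x : G)⁻¹ * y ∈ (S₀ : Subgroup G) ⊓ normalizer ((S₁ : Subgroup G) : Set G) :=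
          Subgroup.mem_inf.2 ⟨(S₀ : Subgroup G).mul_mem ((S₀ : Subgroup G).inv_mem x.2) y.2, Sylow.smul_eq_iff_mem_normalizer.1 e1⟩
        have hm2 : (x : G)⁻¹ * y ∈ (S₀ : Subgroup G) ⊓ (S₁ : Subgroup G) :=
          (S₀.isPGroup'.inf_normalizer_sylow S₁).le hm
        rw [sylow_three_inf h P f hfpf hab hne.symm, mem_bot, inv_mul_eq_one] at hm2
        exact congrArg some (Subtype.ext hm2)
    have := Nat.card_le_card_of_injective j hj
    rwa [Finite.card_option, hS] at this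
  -- the norm
  haveI : Fintype (Sylow 3 G) := Fintype.ofFinite _
  have htot : ∑ g : G, ‖(α : G → ℂ) g‖ ^ 2 = (Nat.card G : ℝ) := by
    have h1 := classInner_irr_self α.2
    rw [classInner_self_eq] at h1
    have h2 : (Nat.card G : ℝ)⁻¹ * ∑ g : G, ‖(α : G → ℂ) g‖ ^ 2 = 1 := by exact_mod_cast h1
    have hG : (Nat.card G : ℝ) ≠ 0 := by exact_mod_cast Nat.card_pos.ne'
    field_simp at h2
    linarith
  let T : Sylow 3 G → Finset G := fun S =>
    (Finset.univ.filter fun g => g ∈ (S : Subgroup G) ∧ g ≠ 1)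
  have hdis : Set.PairwiseDisjoint (Finset.univ : Finset (Sylow 3 G)) T := by
    intro S _ S' _ hSS
    refine Finset.disjoint_left.2 fun g hg hg' => ?_
    simp only [T, Finset.mem_filter] at hg hg'
    have : g ∈ (S : Subgroup G) ⊓ S' := ⟨hg.2.1, hg'.2.1⟩
    rw [sylow_three_inf h P f hfpf hab hSS] at this
    exact hg.2.2 (mem_bot.1 this)
  have hone : ∀ S : Sylow 3 G,
      (q : ℝ) ^ 3 * d - (d : ℝ) ^ 2 ≤ ∑ g ∈ T S, ‖(α : G → ℂ) g‖ ^ 2 := by
    intro S
    haveI : Fintype ↥(S : Subgroup G) := Fintype.ofFinite _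
    have h1 := degree_le_norm (fun a b => (hab S).1.comm a b)
      (IsChar.comp (IsIrr.isCharacter α.2) (S : Subgroup G).subtype) (d := d)
      (by simpa using hα1)
    rw [hS] at h1
    have h2 : ∑ a : ↥(S : Subgroup G), ‖(α : G → ℂ) ((S : Subgroup G).subtype a)‖ ^ 2 =
        ∑ g ∈ Finset.univ.filter (fun g => g ∈ (S : Subgroup G)), ‖(α : G → ℂ) g‖ ^ 2 :=
      (Finset.sum_subtype _ (fun g => by simp) (fun g => ‖(α : G → ℂ) g‖ ^ 2)).symm
    rw [h2, ← Finset.add_sum_erase _ _ (show (1 : G) ∈ Finset.univ.filter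
      (fun g => g ∈ (S : Subgroup G)) by simp), hα1, Complex.norm_natCast] at h1
    rw [show T S = (Finset.univ.filter (fun g => g ∈ (S : Subgroup G))).erase 1 by
      ext g; simp only [T, Finset.mem_filter, Finset.mem_erase]; tauto]
    push_cast at h1
    linarith
  have hsum : (Nat.card (Sylow 3 G) : ℝ) * ((q : ℝ) ^ 3 * d - (d : ℝ) ^ 2) ≤ (Nat.card G : ℝ) := by
    rw [← htot]
    refine le_trans ?_ (Finset.sum_le_sum_of_subset_of_nonneg (Finset.subset_univ
      (Finset.univ.biUnion T)) fun g _ _ => by positivity)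
    rw [Finset.sum_biUnion hdis, Nat.card_eq_fintype_card, ← Finset.card_univ, ← nsmul_eq_mul]
    exact Finset.card_nsmul_le_sum _ _ _ fun S _ => hone S
  have hdR : (d : ℝ) = (q : ℝ) ^ 2 - q + 1 := by exact_mod_cast hα
  have hcardR : (Nat.card G : ℝ) = (q : ℝ) ^ 3 * ((q : ℝ) ^ 3 + 1) * ((q : ℝ) - 1) := by
    rw [P.card, ← hq, Nat.cast_mul, Nat.cast_mul, Nat.cast_sub (by omega : 1 ≤ q)]
    push_cast; ring
  have hq' : (27 : ℝ) ≤ q := by exact_mod_cast hq27
  have hn' : (q : ℝ) ^ 3 + 1 ≤ (Nat.card (Sylow 3 G) : ℝ) := by exact_mod_cast hn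
  have hd0 : (q : ℝ) * (q - 1) ≤ d := by rw [hdR]; nlinarith
  have hd1 : (q : ℝ) ^ 2 * (q - 1) ≤ (q : ℝ) ^ 3 - d := by rw [hdR]; nlinarith
  have hD : (q : ℝ) ^ 3 * (q - 1) ^ 2 ≤ (q : ℝ) ^ 3 * d - (d : ℝ) ^ 2 := by
    calc (q : ℝ) ^ 3 * (q - 1) ^ 2 = ((q : ℝ) * (q - 1)) * ((q : ℝ) ^ 2 * (q - 1)) := by ring
      _ ≤ d * ((q : ℝ) ^ 3 - d) := mul_le_mul hd0 hd1 (by nlinarith) (by positivity)
      _ = _ := by ring
  rw [hcardR] at hsum
  have hpos : (0 : ℝ) < ((q : ℝ) ^ 3 + 1) * ((q : ℝ) ^ 3 * (q - 1)) := by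
    have : (0 : ℝ) < q - 1 := by linarith
    positivity
  have h2 : ((q : ℝ) ^ 3 + 1) * ((q : ℝ) ^ 3 * (q - 1) ^ 2) ≤
      (q : ℝ) ^ 3 * ((q : ℝ) ^ 3 + 1) * ((q : ℝ) - 1) :=
    le_trans (mul_le_mul hn' hD (by positivity) (by positivity)) hsum
  nlinarith

end Cfsg.Agent.H80.WardCons
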