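import Cfsg.Agent.H80.WardCons.Eight
import Cfsg.Agent.H80.WardCons.ReeKill
import Cfsg.Agent.S0252
import Cfsg.Agent.S0253
import Cfsg.Agent.S4273
import Cfsg.Agent.Compute.J1.Basic
import Cfsg.Prelude.Def_Sporadic

/-!
# Simple groups all of whose Sylow subgroups are abelian
-/

set_option autoImplicit false
set_option linter.style.haveILetI false

namespace Cfsg.Agent.H80.WardCons

open Subgroup

universe u

variable {G : Type u} [Group G] [Finite G]

/-- The simple groups with all Sylow subgroups abelian. -/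
theorem all_sylow_abelian (hR : H28.WardCons.TypeRCentralizer.{u}) [hs : IsSimpleGroup G]
    (hna : ¬ IsMulCommutative G)
    (hA : ∀ (p : ℕ), p.Prime → ∀ (P : Sylow p G), IsMulCommutative ↥P) :
    Cfsg.Spor.IsoJ1 G ∨
      ∃ (F : Type) (_ : Field F) (_ : Fintype F), 3 < Fintype.card F ∧
        (Fintype.card F % 8 = 0 ∨ Fintype.card F % 8 = 3 ∨ Fintype.card F % 8 = 5) ∧
        Nonempty (G ≃* Matrix.ProjectiveSpecialLinearGroup (Fin 2) F) := by
  have hab : H10.Walter.AbSyl G := fun T => hA 2 Nat.prime_two T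
  rcases H10.Walter.walterHyp G hs hna hab with
    ⟨F, iF, iFt, n, hn, hc, ⟨e⟩⟩ | ⟨F, iF, iFt, h5, h8, he⟩ | hT
  · refine Or.inr ?_
    by_cases hn2 : n = 2
    · subst hn2
      haveI : Fact (Nat.Prime 5) := ⟨by norm_num⟩
      obtain ⟨a⟩ := S0252.result (F := F) (by rw [hc]; rfl)
      obtain ⟨b⟩ := S0253.result (F := ZMod 5) (ZMod.card 5)
      exact ⟨ZMod 5, inferInstance, inferInstance, by rw [ZMod.card]; omega,
        Or.inr (Or.inr (by rw [ZMod.card])), ⟨(e.trans a).trans b.symm⟩⟩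
    · refine ⟨F, iF, iFt, ?_, Or.inl ?_, ⟨e⟩⟩
      · rw [hc]
        calc 3 < 2 ^ 2 := by norm_num
          _ ≤ 2 ^ n := Nat.pow_le_pow_right (by norm_num) hn
      · rw [hc, show (8 : ℕ) = 2 ^ 3 from rfl]
        exact Nat.mod_eq_zero_of_dvd (pow_dvd_pow 2 (by omega))
  · exact Or.inr ⟨F, iF, iFt, by omega, Or.inr h8, he⟩
  · obtain ⟨t, F, _, _, ht, h5, -, he⟩ := hR G hs hna hab hT
    rcases wardHyp G hs (fun P a b => (hab P).1.comm a b) F (by omega) t ht he with
      ⟨m, hm, hq, hc⟩ | ⟨-, hj⟩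
    · exfalso
      have hodd : Odd (Fintype.card F) := by rw [hq]; exact Odd.pow (by decide)
      obtain ⟨F', _, _, hcard, h⟩ :=
        H29.Ward.exists_hyp (fun P a b => (hab P).1.comm a b) hodd h5 ht he
      have hF' : Fintype.card F' = 3 ^ (2 * m + 1) := hcard.trans hq
      exact ree_false h ⟨⟨m, hm, hF'⟩, by rw [hF']; exact hc⟩ (fun S => hA 3 Nat.prime_three S)
    · haveI := hj.1
      haveI := Compute.J1.isSimple_J1
      haveI : Finite ↥Cfsg.Spor.J1 :=
        Nat.finite_of_card_ne_zero (by rw [Compute.J1.card_J1]; norm_num)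
      exact Or.inl (S4273.result hj.2 Compute.J1.card_J1)

end Cfsg.Agent.H80.WardCons
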