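import Cfsg.Agent.H28.WardCons.Basic
import Cfsg.Agent.H10.Walter.Final
import Cfsg.Agent.S0343
import Cfsg.Agent.S0201
import Cfsg.Agent.S0483
import Cfsg.Agent.PGroups.TwoGroups
import Cfsg.Agent.H56.CTwoAb.Small
import Cfsg.Agent.H86.PrimeGraph.PSLTwoEven
import Cfsg.Agent.H70.Balanced.Rows

/-!
# Simple groups with Sylow 2-subgroups of order 8
-/

set_option autoImplicit false
set_option linter.style.haveILetI false

namespace Cfsg.Agent.H80.WardCons

open Subgroup

universe u

theorem wardHyp : H28.WardCons.WardHyp.{u} := fun X _ _ hs hab F _ _ hq t ht hC => by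
  haveI := hs
  exact S0343.result hab hq t ht hC

/-- The non-abelian groups of order 8. -/
theorem dihedral_or_quaternion {P : Type*} [Group P] [Finite P] (h8 : Nat.card P = 8)
    (hna : ¬ IsMulCommutative P) :
    Nonempty (P ≃* DihedralGroup 4) ∨ Nonempty (P ≃* QuaternionGroup 2) := by
  have hdvd : ∀ x : P, orderOf x ∣ 2 ^ 3 := fun x => by
    rw [show (2 : ℕ) ^ 3 = 8 from rfl, ← h8]
    exact orderOf_dvd_natCard x
  have h4 : ∃ c : P, orderOf c = 4 := by
    by_contra hno
    push Not at hno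
    refine hna ⟨⟨fun a b => ?_⟩⟩
    have hsq : ∀ x : P, x * x = 1 := fun x => by
      obtain ⟨i, hi, he⟩ := (Nat.dvd_prime_pow Nat.prime_two).1 (hdvd x)
      interval_cases i
      · rw [orderOf_eq_one_iff.1 he, mul_one]
      · rw [← pow_two, ← pow_one 2, ← he, pow_orderOf_eq_one]
      · exact absurd he (hno x)
      · have := pow_orderOf_eq_one x
        exfalso
        refine hno (x ^ 2) ?_
        rw [orderOf_pow' x two_ne_zero, he]
        norm_num
    have hinv : ∀ x : P, x⁻¹ = x := fun x => inv_eq_of_mul_eq_one_right (hsq x)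
    rw [← hinv (a * b), mul_inv_rev, hinv, hinv]
  obtain ⟨c, hc⟩ := h4
  have hidx : (zpowers c).index = 2 := by
    have := (zpowers c).card_mul_index
    rw [Nat.card_zpowers, hc, h8] at this
    omega
  haveI := Subgroup.normal_of_index_eq_two hidx
  obtain ⟨y, hy⟩ : ∃ y, y ∉ zpowers c := by
    by_contra hall
    push Not at hall
    have : zpowers c = ⊤ := eq_top_iff.2 fun x _ => hall x
    rw [this, index_top] at hidx
    omega
  have hy2 : y ^ 2 ∈ zpowers c := by
    have := Subgroup.mul_self_mem_of_index_two hidx y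
    rwa [pow_two]
  have hyc : y * c * y⁻¹ ∈ zpowers c := Subgroup.Normal.conj_mem inferInstance c (mem_zpowers c) y
  have hfin : IsOfFinOrder c := isOfFinOrder_of_finite c
  obtain ⟨i, hi, hie⟩ : ∃ i < 4, y * c * y⁻¹ = c ^ i := by
    obtain ⟨i, hi⟩ := Submonoid.mem_powers_iff _ _ |>.1 (mem_powers_iff_mem_zpowers.2 hyc)
    refine ⟨i % 4, Nat.mod_lt _ (by norm_num), ?_⟩
    rw [← hc, pow_mod_orderOf]
    exact hi.symm
  have hord : orderOf (c ^ i) = 4 := by
    rw [← hie, show y * c * y⁻¹ = MulAut.conj y c from rfl, MulEquiv.orderOf_eq, hc]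
  have hconj : y * c * y⁻¹ = c⁻¹ := by
    rw [hie]
    interval_cases i
    · simp at hord
    · exfalso
      rw [pow_one] at hie
      refine hna ?_
      have hcy : Commute y c := mul_inv_eq_iff_eq_mul.1 hie
      have hall : ∀ x : P, ∃ k : ℤ, x = c ^ k ∨ x = y * c ^ k := fun x => by
        by_cases hx : x ∈ zpowers c
        · obtain ⟨k, hk⟩ := mem_zpowers_iff.1 hx
          exact ⟨k, Or.inl hk.symm⟩
        · have h : y⁻¹ * x ∈ zpowers c := by
            rw [Subgroup.mul_mem_iff_of_index_two hidx, inv_mem_iff]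
            exact iff_of_false hy hx
          obtain ⟨k, hk⟩ := mem_zpowers_iff.1 h
          exact ⟨k, Or.inr (by rw [hk]; group)⟩
      refine ⟨⟨fun a b => ?_⟩⟩
      obtain ⟨k, rfl | rfl⟩ := hall a <;> obtain ⟨l, rfl | rfl⟩ := hall b
      · exact ((Commute.refl c).zpow_zpow k l).eq
      · exact (((hcy.symm.zpow_left k).mul_right ((Commute.refl c).zpow_zpow k l))).eq
      · exact ((((hcy.symm.zpow_left l).mul_right ((Commute.refl c).zpow_zpow l k))).eq).symm
      · exact (((Commute.refl y).mul_right (hcy.zpow_right l)).mul_left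
          (((hcy.symm.zpow_left k)).mul_right ((Commute.refl c).zpow_zpow k l))).eq
    · rw [orderOf_pow' c two_ne_zero, hc] at hord
      norm_num at hord
    · refine eq_inv_of_mul_eq_one_left ?_
      have h1 := pow_orderOf_eq_one c
      rw [hc] at h1
      rw [← pow_succ, h1]
  obtain ⟨j, hj, hje⟩ : ∃ j < 4, y ^ 2 = c ^ j := by
    obtain ⟨j, hj⟩ := Submonoid.mem_powers_iff _ _ |>.1 (mem_powers_iff_mem_zpowers.2 hy2)
    refine ⟨j % 4, Nat.mod_lt _ (by norm_num), ?_⟩
    rw [← hc, pow_mod_orderOf]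
    exact hj.symm
  have hfix : y * c ^ j * y⁻¹ = c ^ j := by rw [← hje]; group
  rw [← conj_pow, hconj, inv_pow, inv_eq_iff_mul_eq_one, ← pow_add] at hfix
  have hd : 4 ∣ j + j := hc ▸ orderOf_dvd_of_pow_eq_one hfix
  rcases (show j = 0 ∨ j = 2 by omega) with rfl | rfl
  · exact Or.inl (PGroups.nonempty_mulEquiv_dihedral hc hy (by rw [hje, pow_zero]) hconj (by omega))
  · exact Or.inr (PGroups.nonempty_mulEquiv_quaternion (n := 2) hc hy hje hconj (by omega))

variable {G : Type u} [Group G] [Finite G]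

/-- The simple groups with Sylow 2-subgroups of order 8. -/
theorem sylow_eight (hR : H28.WardCons.TypeRCentralizer.{u}) [hs : IsSimpleGroup G]
    (hG : ¬ IsMulCommutative G) (T : Sylow 2 G) (hT : Nat.card ↥(T : Subgroup G) = 8) :
    (∃ (F : Type) (_ : Field F) (_ : Fintype F), Fintype.card F = 8 ∧
        Nonempty (G ≃* Matrix.ProjectiveSpecialLinearGroup (Fin 2) F)) ∨
      (∃ (F : Type) (_ : Field F) (_ : Fintype F),
        (Fintype.card F % 16 = 7 ∨ Fintype.card F % 16 = 9) ∧
          Nonempty (G ≃* Matrix.ProjectiveSpecialLinearGroup (Fin 2) F)) ∨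
      Nonempty (G ≃* alternatingGroup (Fin 7)) ∨ Cfsg.IsJ1 G ∨ Cfsg.IsRee G := by
  haveI : Fact (Nat.Prime 2) := ⟨Nat.prime_two⟩
  obtain ⟨k, hk, hGc⟩ : ∃ k, k % 2 = 1 ∧ Nat.card G = 8 * k := by
    refine ⟨(T : Subgroup G).index, ?_, by rw [← hT, Subgroup.card_mul_index]⟩
    have := T.not_dvd_index
    omega
  by_cases hTa : IsMulCommutative ↥(T : Subgroup G)
  · rcases H28.WardCons.cases_of_absyl H10.Walter.walterHyp hR wardHyp hs hG
      (H10.Walter.absyl_of_sylow T hTa) with ⟨F, _, _, n, hn, hc, ⟨e⟩⟩ | ⟨F, _, _, h5, h8, ⟨e⟩⟩ | ⟨-, h | h⟩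
    · refine Or.inl ⟨F, inferInstance, inferInstance, ?_, ⟨e⟩⟩
      have hcard := (Nat.card_congr e.toEquiv).trans
        (H86.PrimeGraph.card_psl_two_even (by omega : 1 ≤ n) hc)
      rw [hGc] at hcard
      have hodd : (2 ^ (2 * n) - 1) % 2 = 1 := by
        have h1 : 2 ∣ 2 ^ (2 * n) := dvd_pow_self 2 (by omega)
        have := Nat.one_le_two_pow (n := 2 * n)
        omega
      have h3 : n = 3 := by
        have hf := congrArg (fun m => m.factorization 2) hcard
        rw [Nat.factorization_mul (by norm_num) (by omega : k ≠ 0),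
          Nat.factorization_mul (by positivity) (by omega), Finsupp.add_apply, Finsupp.add_apply,
          Nat.factorization_eq_zero_of_not_dvd (n := k) (by omega),
          Nat.factorization_eq_zero_of_not_dvd (n := 2 ^ (2 * n) - 1) (by omega),
          show (8 : ℕ) = 2 ^ 3 from rfl, Nat.Prime.factorization_pow Nat.prime_two,
          Nat.Prime.factorization_pow Nat.prime_two, Finsupp.single_eq_same,
          Finsupp.single_eq_same] at hf
        omega
      rw [hc, h3]
      rfl
    · exfalso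
      have h2 := H56.CTwoAb.card_psl_two_odd (F := F) (by omega)
      rw [← Nat.card_congr e.toEquiv, hGc] at h2
      obtain ⟨l, r, hr, hq⟩ : ∃ l r, (r = 3 ∨ r = 5) ∧ Fintype.card F = 8 * l + r :=
        ⟨Fintype.card F / 8, Fintype.card F % 8, h8, (Nat.div_add_mod _ 8).symm⟩
      have hm := congrArg (fun m => (m : ℕ) % 16) h2
      simp only [hq] at hm
      have h1 : 1 ≤ (8 * l + r) ^ 2 := Nat.one_le_pow _ _ (by omega)
      rcases hr with rfl | rfl
      · rw [show (8 * l + 3) * ((8 * l + 3) ^ 2 - 1) = 16 * (32 * l ^ 3 + 36 * l ^ 2 + 13 * l + 1) + 8 by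
          zify [h1]; ring] at hm
        omega
      · rw [show (8 * l + 5) * ((8 * l + 5) ^ 2 - 1) = 16 * (32 * l ^ 3 + 60 * l ^ 2 + 37 * l + 7) + 8 by
          zify [h1]; ring] at hm
        omega
    · exact Or.inr (Or.inr (Or.inr (Or.inr h)))
    · exact Or.inr (Or.inr (Or.inr (Or.inl h)))
  · have hO : Cfsg.oddCore G = ⊥ := H70.Balanced.oddCore_eq_bot_of_simple hG
    rcases dihedral_or_quaternion hT hTa with hd | ⟨⟨e⟩⟩
    · haveI : Group.IsPerfect G := by
        refine ⟨?_⟩
        rcases (inferInstance : (commutator G).Normal).eq_bot_or_eq_top with h | h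
        · rw [commutator_def, commutator_top_right_eq_bot_iff_le_center] at h
          exact absurd ⟨⟨fun a b => ((mem_center_iff.1 (h (mem_top a))) b).symm⟩⟩ hG
        · exact h
      let q₀ : G ⧸ Cfsg.oddCore G ≃* G :=
        (QuotientGroup.quotientMulEquivOfEq hO).trans QuotientGroup.quotientBot
      rcases S0483.result T 4 (by norm_num) hd with ⟨F, _, _, hodd, h3, ⟨e⟩⟩ | ⟨⟨e⟩⟩
      · refine Or.inr (Or.inl ⟨F, inferInstance, inferInstance, ?_, ⟨q₀.symm.trans e⟩⟩)
        have h2 := H56.CTwoAb.card_psl_two_odd (F := F) (Nat.odd_iff.1 hodd)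
        rw [← Nat.card_congr (q₀.symm.trans e).toEquiv, hGc] at h2
        obtain ⟨l, r, hr, hq⟩ : ∃ l r, r < 16 ∧ Fintype.card F = 16 * l + r :=
          ⟨Fintype.card F / 16, Fintype.card F % 16, Nat.mod_lt _ (by norm_num),
            (Nat.div_add_mod _ 16).symm⟩
        have ho := Nat.odd_iff.1 hodd
        have hm := congrArg (fun m => (m : ℕ) % 32) h2
        simp only [hq] at hm ho ⊢
        have h1 : 1 ≤ (16 * l + r) ^ 2 := Nat.one_le_pow _ _ (by omega)
        obtain ⟨X, hX⟩ : ∃ X, (16 * l + r) * ((16 * l + r) ^ 2 - 1) + r =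
            32 * X + (16 * l * (3 * r ^ 2 - 1) + r ^ 3) := by
          refine ⟨128 * l ^ 3 + 24 * l ^ 2 * r, ?_⟩
          have h2' : 1 ≤ 3 * r ^ 2 := by
            have : 0 < r := by omega
            exact Nat.one_le_iff_ne_zero.2 (by positivity)
          zify [h1, h2']
          ring
        interval_cases r <;> omega
      · exact Or.inr (Or.inr (Or.inl ⟨q₀.symm.trans e⟩))
    · exfalso
      have hz := S0201.result T 0 e fun N hN ho => by
        refine hN.eq_bot_or_eq_top.resolve_right fun h => hG ?_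
        rw [h, card_top, hGc, Nat.odd_iff] at ho
        omega
      rcases (inferInstance : (center G).Normal).eq_bot_or_eq_top with h | h
      · rw [h, card_bot] at hz
        omega
      · exact hG ⟨⟨fun a b => ((mem_center_iff.1 (h ▸ mem_top a : a ∈ center G)) b).symm⟩⟩

end Cfsg.Agent.H80.WardCons
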