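import Cfsg.Agent.H72.PiHom.ReeReal
import Cfsg.Agent.H26.DefectZero

/-!
# Three characters in the Ree case

With the Ree parameters there are irreducible characters `α`, `δ`, `ξ` of degrees `q² - q + 1`,
`q³`, `q³ + 1`, and `1`, `δ`, `ξ` are linearly dependent at the 3-singular elements.
-/

set_option autoImplicit false
set_option linter.unusedSectionVars false
set_option linter.style.haveILetI false

namespace Cfsg.Agent.H80.WardCons

open Subgroup Cfsg Cfsg.Agent Cfsg.Agent.CharBasic Cfsg.Agent.CharInduce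
open Cfsg.Agent.Linear.Dickson Cfsg.Agent.H29.Ward
open Cfsg.Agent.H72.PiHom (ReeParam SplitCfg)
open scoped ComplexConjugate

universe u

variable {G : Type u} [Group G] [Fintype G] {F : Type} [Field F] [Fintype F] {t v : G}

local notation "P2" => Matrix.ProjectiveSpecialLinearGroup (Fin 2) F

theorem degree_natAbs {e : ℤ} (he : e * e = 1) {d N : ℕ} {x : ℤ}
    (h : e * (d : ℤ) = x) (hx : x.natAbs = N) : d = N := by
  subst hx
  rw [← h, Int.natAbs_mul, Int.natAbs_natCast,
    Int.natAbs_of_isUnit (IsUnit.of_mul_eq_one _ he), one_mul]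

open scoped Classical in
/-- The characters used in the Ree case. -/
theorem exists_rows (h : Hyp G F t) (P : ReeParam G F) (f : Frame G F t v)
    (hfpf : ∀ k ∈ f.P.K, f.P.w * k * f.P.w⁻¹ = k → k = 1) :
    ∃ (α δ ξ : IrrCharacter G) (e e' : ℤ),
      (charDegree (α : G → ℂ) : ℤ) = (Fintype.card F : ℤ) ^ 2 - Fintype.card F + 1 ∧
      charDegree (δ : G → ℂ) = Fintype.card F ^ 3 ∧
      charDegree (ξ : G → ℂ) = Fintype.card F ^ 3 + 1 ∧
      ∀ g : G, 3 ∣ orderOf g → 1 + (e : ℂ) * (δ : G → ℂ) g + (e' : ℂ) * (ξ : G → ℂ) g = 0 := by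
  letI : Fintype P2 := Fintype.ofFinite _
  obtain ⟨U, S, hU, hUθ⟩ := H72.PiHom.exists_splitCfg h P f
  set T := H15.Ward.toriOfFrame f h.five h.mod_eight with hT
  have hV := H15.Ward.toriOfFrame_torusValues f h.five h.mod_eight
  obtain ⟨s, hs, E, N, R⟩ := H72.PiHom.exists_reeData h P f hfpf T.isPslSide hV
  set q : ℤ := (Fintype.card F : ℤ) with hq
  have hsq : ∀ χ, s χ * s χ = 1 := hs.sq
  have hb : 27 ≤ q := R.big
  -- a linear character of the torus
  haveI : Fintype ↥U := Fintype.ofFinite _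
  have hUc : ∀ a b : ↥U, a * b = b * a := fun a b => Subtype.ext (S.comm a a.2 b b.2).eq
  have hUhom : Nat.card (↥U →* ℂˣ) = Nat.card ↥U := H15.Ward.card_homs hUc
  haveI : Finite (↥U →* ℂˣ) := Nat.finite_of_card_ne_zero (by rw [hUhom]; exact Nat.card_pos.ne')
  haveI : Nontrivial (↥U →* ℂˣ) := Finite.one_lt_card_iff_nontrivial.1 (by
    rw [hUhom]; have := P.big; omega)
  obtain ⟨ψ, hψ⟩ := exists_ne (1 : ↥U →* ℂˣ)
  -- its vector
  choose n hn using fun χ => H72.PiHom.SplitCfg.exists_coef (D := f.D) (U := U) true ψ χ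
  set Ps := H72.PiHom.SplitCfg.Psi f.D U true ψ with hPs
  have hexp : ∀ g : G, ∑ χ, (n χ : ℂ) * (χ : G → ℂ) g = Ps g := by
    intro g
    have h0 := congrFun (classFunction_expansion (ψ := Ps) (isClassFunction_indFun _ _)) g
    rw [Finset.sum_apply] at h0
    rw [h0]
    exact Finset.sum_congr rfl fun χ _ => by rw [Pi.smul_apply, smul_eq_mul, hn]
  have hn3 : ∑ χ, n χ * n χ = 3 := by
    have h1 := classInner_eq_sum (ψ := Ps) (φ := Ps) (isClassFunction_indFun _ _)
    rw [S.inner_Psi_Psi hψ hψ] at h1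
    simp only [hn, map_intCast] at h1
    have h2 : ψ * ψ ≠ 1 := fun e => hψ (MonoidHom.ext fun x => by
      have hx : ψ x * ψ x = 1 := DFunLike.congr_fun e x
      obtain ⟨k, hk⟩ := S.odd
      have h3 : ψ x ^ Nat.card ↥U = 1 := by rw [← map_pow, pow_card_eq_one', map_one]
      rw [hk, pow_succ, pow_mul, pow_two, hx, one_pow, one_mul] at h3
      exact h3)
    simp only [if_pos, if_neg h2, add_zero] at h1
    exact_mod_cast h1.symm
  have hnd : ∑ χ : IrrCharacter G, n χ * (charDegree (χ : G → ℂ) : ℤ) = 0 := by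
    have h3 : ((∑ χ : IrrCharacter G, n χ * (charDegree (χ : G → ℂ) : ℤ) : ℤ) : ℂ) = 0 := by
      push_cast
      rw [← H72.PiHom.SplitCfg.Psi_one (D := f.D) (U := U) true ψ, ← hPs, ← hexp]
      exact Finset.sum_congr rfl fun χ _ => by rw [(H83.charDegree_eq χ.2).1]
    exact_mod_cast h3
  have hnt : ∑ χ, n χ * f.D.val T.side χ = 0 := by
    have h3 : ((∑ χ, n χ * f.D.val T.side χ : ℤ) : ℂ) = 0 := by
      push_cast
      rw [← S.Psi_t true ψ, ← hPs, ← hexp]
      exact Finset.sum_congr rfl fun χ _ => by rw [f.D.apply_val T.side χ]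
    exact_mod_cast h3
  have hna : ∀ i : Fin 3, ∑ χ, f.D.d T.side (.inl i) χ * n χ = if i = 0 then 2 else 1 := by
    intro i
    have h1 := classInner_eq_sum (ψ := f.D.F (T.side.θ (.inl i))) (φ := Ps)
      (isClassFunction_indFun _ _)
    rw [S.inner_Psi_F true hψ (T.side.van (.inl i)) (c := if i = 0 then 2 else 1) (fun x hx => by
      rw [hUθ i x x.2 fun e => hx (Subtype.ext e)]; split_ifs <;> simp)] at h1
    simp only [hn, f.D.d_spec, map_intCast, H72.PiHom.zsign, Int.cast_one, one_mul] at h1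
    have h2 : (if i = 0 then 2 else 1 : ℤ) = ∑ χ, n χ * f.D.d T.side (.inl i) χ := by
      exact_mod_cast h1
    rw [h2]
    exact Finset.sum_congr rfl fun χ _ => mul_comm _ _
  have hn1 : n (H36.SelfCentral.triv G) = 1 := by
    have h1 := hn (H36.SelfCentral.triv G)
    rw [show ((H36.SelfCentral.triv G : IrrCharacter G) : G → ℂ) = fun _ => (1 : ℂ) from rfl,
      S.inner_Psi_one true hψ, if_pos rfl] at h1
    exact_mod_cast h1.symm
  have hdvd : ∀ χ, s χ * (charDegree (χ : G → ℂ) : ℤ) ∣ q ^ 3 * (q ^ 3 + 1) * (q - 1) := fun χ => by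
    rw [hq, ← P.card_int]
    exact ((IsUnit.of_mul_eq_one _ (hsq χ)).mul_left_dvd).2 (degree_dvd_card χ)
  obtain ⟨x, hxa, hxv, hxd, -, hxz⟩ := R.exc_row N (v := s * n) ((hs.dot_mul _ _).trans hn3)
    ((hs.dot_mul _ _).trans hnd) ((hs.dot_mul _ _).trans hnt)
    (fun i => (hs.dot_mul _ _).trans (hna i)) hdvd
  simp only [Pi.mul_apply] at hxv hxz
  have hone : s (H36.SelfCentral.triv G) * n (H36.SelfCentral.triv G) = 1 := by
    rw [hn1, hs.one, one_mul]
  set o := H36.SelfCentral.triv G with ho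
  have ho' : ∀ z, z ≠ x → s z * n z = if z = o ∨ z = E.T then 1 else 0 := fun z hz => by
    exact (hxz z hz).trans (if_pos hone)
  have hxo : x ≠ o := by
    intro e
    have h1 := hxa 0
    rw [e] at h1
    have h2 := ((cols f.D T.isPslSide
      (h.signedQ_spec P.eleven).1 (h.signedQ_spec P.eleven).2 (f.conj_invol h)).flip hs).a_one 0
    rw [if_pos rfl] at h2
    exact one_ne_zero (h2.symm.trans h1)
  have hxT : x ≠ E.T := by
    intro e
    have h1 := hxa 0
    rw [e] at h1
    have h2 : E.T ∈ Cfsg.Agent.H64.Ward.supp (((cols f.D T.isPslSide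
      (h.signedQ_spec P.eleven).1 (h.signedQ_spec P.eleven).2 (f.conj_invol h)).flip hs).a 0) := by
      rw [E.suppA]; simp
    exact H64.Ward.mem_supp.1 h2 h1
  have hoT : o ≠ E.T := by
    have := E.nodA
    simp only [List.nodup_cons, List.mem_cons, List.not_mem_nil, or_false, not_or] at this
    exact this.1.2.2
  have hnT : n E.T = s E.T := by
    have h1 := ho' E.T hxT.symm
    rw [if_pos (Or.inr rfl)] at h1
    calc n E.T = (s E.T * s E.T) * n E.T := by rw [hsq, one_mul]
      _ = s E.T := by rw [mul_assoc, h1, mul_one]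
  refine ⟨E.A, E.T, x, s E.T, n x, ?_, ?_, ?_, fun g hg => ?_⟩
  · have h1 : s E.A * (charDegree (E.A : G → ℂ) : ℤ) = -(q ^ 2 - q + 1) := R.dA
    have h3 : 0 ≤ q ^ 2 - q + 1 := by nlinarith
    rw [degree_natAbs (hsq E.A) h1 (Int.natAbs_neg _), Int.natAbs_of_nonneg h3]
  · have h1 : s E.T * (charDegree (E.T : G → ℂ) : ℤ) = q ^ 3 := R.dT
    exact degree_natAbs (hsq E.T) h1 (by rw [hq, Int.natAbs_pow, Int.natAbs_natCast])
  · rcases hxd with h1 | h1 <;>
      refine degree_natAbs (hsq x) h1 ?_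
    · rw [hq]; norm_cast
    · rw [hq, Int.natAbs_neg]; norm_cast
  · have h0 : Ps g = 0 := by
      rw [hPs, H72.PiHom.SplitCfg.Psi, indFun_apply, Finset.sum_eq_zero, mul_zero]
      intro k _
      refine extendByZero_of_not_mem _ fun hk => ?_
      have h1 := Subgroup.orderOf_dvd_natCard _ hk
      rw [show k⁻¹ * g * k = (MulAut.conj k⁻¹).toMonoidHom g by simp,
        orderOf_injective (MulAut.conj k⁻¹).toMonoidHom (MulAut.conj k⁻¹).injective,
        H72.PiHom.SplitCfg.card_A] at h1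
      have h3 := hg.trans h1
      have h4 := P.mod_three
      omega
    rw [← hexp g, ← Finset.sum_subset (Finset.subset_univ ({o, E.T, x} : Finset (IrrCharacter G)))
      (fun z _ hz => by
        simp only [Finset.mem_insert, Finset.mem_singleton, not_or] at hz
        have h1 := ho' z hz.2.2
        rw [if_neg (by tauto)] at h1
        rw [(mul_eq_zero.1 h1).resolve_left (hs.ne_zero z)]
        simp),
      Finset.sum_insert (by simp [hoT, hxo.symm]), Finset.sum_pair hxT.symm, hn1, hnT] at h0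
    rw [← h0, show (o : G → ℂ) g = 1 from rfl]
    push_cast
    ring

end Cfsg.Agent.H80.WardCons
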