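import Cfsg.Agent.H80.WardCons.ReeRows
import Cfsg.Agent.H29.Ward.Reduce
import Cfsg.Agent.H79.Ward.Setup
import Cfsg.Agent.H15.Ward.PslSide

/-!
# No Ree parameters with abelian Sylow 3-subgroups

The centraliser of an element of order 3 would be a Sylow 3-subgroup extended by at most an
involution, so Sylow 3-subgroups would meet trivially, and then a character of degree
`q² - q + 1` has too large a norm.
-/

set_option autoImplicit false
set_option linter.unusedSectionVars false
set_option linter.style.haveILetI false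

namespace Cfsg.Agent.H80.WardCons

open Subgroup Cfsg Cfsg.Agent Cfsg.Agent.CharBasic
open Cfsg.Agent.Linear.Dickson Cfsg.Agent.H29.Ward
open Cfsg.Agent.H72.PiHom (ReeParam)
open Cfsg.Agent.H84.Ward (TData)

universe u

variable {G : Type u} [Group G] [Fintype G] {F : Type} [Field F] [Fintype F] {t v : G}

local notation "P2" => Matrix.ProjectiveSpecialLinearGroup (Fin 2) F

/-- An irreducible character vanishes at `p`-singular elements when its degree has the full
`p`-part. -/
theorem vanish_of_degree (χ : IrrCharacter G) {p : ℕ} (hp : p.Prime)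
    (hd : p ^ (Nat.card G).factorization p ∣ charDegree (χ : G → ℂ)) {g : G}
    (hg : p ∣ orderOf g) : (χ : G → ℂ) g = 0 := by
  obtain ⟨m, ρ, hρ, hρχ⟩ := χ.2
  haveI := hρ
  have hm : charDegree (χ : G → ℂ) = m := by
    have h2 : (χ : G → ℂ) 1 = (m : ℂ) := by
      rw [← hρχ, Representation.char_one, Module.finrank_fin_fun]
    rw [(H83.charDegree_eq χ.2).1] at h2
    exact_mod_cast h2
  rw [← hρχ]
  exact H26.defect_zero_vanish ρ hp (Nat.ordProj_dvd _ _)
    (Nat.pow_succ_factorization_not_dvd Nat.card_pos.ne' hp)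
    (by rw [Module.finrank_fin_fun, ← hm]; exact hd) hg

/-- In `PSL₂(q)`, `q` a power of 3, an involution centralises no element of order 3. -/
theorem eq_one_of_commute_three (h3 : CharP F 3) (hodd : Odd (Fintype.card F)) {b d : P2}
    (hb : orderOf b = 3) (hd : d * d = 1) (hbd : Commute d b) : d = 1 := by
  haveI := h3
  haveI : Fact (Nat.Prime 3) := ⟨Nat.prime_three⟩
  have hb1 : b ≠ 1 := fun e => by rw [e, orderOf_one] at hb; omega
  have huni : IsUni b := by
    by_contra hu
    refine coprime_card_cen 3 hu ?_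
    have := Subgroup.orderOf_dvd_natCard _ (mem_cen_self b)
    rwa [hb] at this
  obtain ⟨g, hg⟩ := exists_conj_stdUni hb1 huni
  have h1 : g * d * g⁻¹ ∈ cen (stdUni : P2) := by
    refine H15.Ward.uni_centralizer hg (fun e => hb1 (conj_eq_one_iff.1 e)) ?_
    exact hbd.map (MulAut.conj g).toMonoidHom
  have h2 : g * d * g⁻¹ = 1 := by
    refine H29.Walter.coprime_two_of_odd ?_ ?_
    · refine Odd.of_dvd_nat ?_ (Subgroup.orderOf_dvd_natCard _ h1)
      rwa [card_cen_stdUni]
    · rw [show g * d * g⁻¹ * (g * d * g⁻¹) = g * (d * d) * g⁻¹ by group, hd, mul_one, mul_inv_cancel]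
  exact conj_eq_one_iff.1 h2

/-- Commuting involutions centralising an element of order 3 are equal. -/
theorem invol_unique (h : Hyp G F t) (P : ReeParam G F) {y a b : G} (hy : orderOf y = 3)
    (ha : a * a = 1) (ha1 : a ≠ 1) (hb : b * b = 1) (hb1 : b ≠ 1) (hab : Commute a b)
    (hya : Commute a y) (hyb : Commute b y) : a = b := by
  haveI := P.charP
  have hA := h.of_invol (x := a) (orderOf_eq_prime (by rw [pow_two, ha]) ha1)
  obtain ⟨e⟩ := hA.iso
  obtain ⟨hs2, hs1⟩ := hA.apply_self e
  set ac : centralizer ({a} : Set G) := ⟨a, mem_centralizer_singleton_iff.2 rfl⟩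
  set bc : centralizer ({a} : Set G) := ⟨b, mem_centralizer_singleton_iff.2 hab.symm.eq⟩
  set yc : centralizer ({a} : Set G) := ⟨y, mem_centralizer_singleton_iff.2 hya.symm.eq⟩
  have hyo : orderOf (e yc).2 = 3 := by
    have h0 : orderOf (e yc) = 3 := by
      rw [MulEquiv.orderOf_eq, ← Subgroup.orderOf_coe]
      exact hy
    have h1 : (e yc).1 = 1 :=
      H72.PiHom.fst_of_odd (F := F) (by rw [h0]; decide)
    rw [Prod.orderOf, h1, orderOf_one, Nat.lcm_one_left] at h0
    exact h0
  have hd : (e bc).2 = 1 := by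
    refine eq_one_of_commute_three P.charP h.odd hyo ?_ ?_
    · have h0 : bc * bc = 1 := Subtype.ext hb
      have := congrArg (fun x => (e x).2) h0
      simpa using this
    · have h0 : Commute bc yc := Subtype.ext hyb
      exact congrArg Prod.snd (h0.map e.toMonoidHom).eq
  rcases zmod_two_cases (e bc).1 with h1 | h1
  · exfalso
    exact hb1 (congrArg Subtype.val (e.injective (by rw [map_one]; exact Prod.ext h1 hd) : bc = 1))
  · exact (congrArg Subtype.val (e.injective (Prod.ext (hs1.trans h1.symm) (hs2.trans hd.symm)) :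
      ac = bc))

/-- An element of order 3 commutes with no element of prime order dividing `(q - 1)/2`. -/
theorem not_commute_split (h : Hyp G F t) (P : ReeParam G F) (f : Frame G F t v) {r : ℕ}
    (hr : r.Prime) (hrd : r ∣ (Fintype.card F - 1) / 2) {y z : G} (hy : orderOf y = 3)
    (hz : orderOf z = r) : ¬ Commute z y := by
  intro hzy
  haveI := P.charP
  haveI : Fact r.Prime := ⟨hr⟩
  set m := (Fintype.card F - 1) / 2 with hm
  obtain ⟨R⟩ : Nonempty (Sylow r P2) := inferInstance
  have hP2 : 2 * Nat.card P2 = Fintype.card F * (Fintype.card F ^ 2 - 1) :=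
    H56.CTwoAb.card_psl_two_odd (Nat.odd_iff.1 h.odd)
  have hmd : m ∣ Nat.card P2 := by
    have h8 := P.mod_eight
    obtain ⟨k, hk⟩ : ∃ k, Fintype.card F = 2 * k + 1 := ⟨m, by omega⟩
    have hmk : m = k := by omega
    refine ⟨(2 * k + 1) * (2 * (k + 1)), ?_⟩
    rw [hmk]
    have h1 : (2 * k + 1) ^ 2 - 1 = 4 * k * (k + 1) := by
      rw [show (2 * k + 1) ^ 2 = 4 * k * (k + 1) + 1 by ring, Nat.add_sub_cancel]
    rw [hk, h1] at hP2
    linarith
  have hfac : (Nat.card G).factorization r ≤ (Nat.card P2).factorization r := by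
    rw [P.factorization_eq hr hrd]
    exact (Nat.factorization_le_iff_dvd (by have := P.big; omega) Nat.card_pos.ne').2 hmd r
  set ι : P2 →* G := f.D.emb.comp (MonoidHom.inr _ _) with hι
  have hιi : Function.Injective ι := fun a b e => congrArg Prod.snd (f.D.emb_injective e)
  obtain ⟨Q, hQ⟩ := (R.isPGroup'.map ι).exists_le_sylow
  have hQe : (R : Subgroup P2).map ι = (Q : Subgroup G) := by
    refine eq_of_le_of_card_ge hQ ?_
    rw [card_map_of_injective hιi, Q.card_eq_multiplicity, R.card_eq_multiplicity]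
    exact Nat.pow_le_pow_right hr.pos hfac
  obtain ⟨Q', hQ'⟩ := (IsPGroup.of_card (p := r) (G := zpowers z) (n := 1) (by
    rw [Nat.card_zpowers, hz, pow_one])).exists_le_sylow
  obtain ⟨g, hg⟩ := MulAction.exists_smul_eq G Q' Q
  have hmem : g * z * g⁻¹ ∈ (Q : Subgroup G) := by
    rw [← hg, Sylow.coe_subgroup_smul]; exact ⟨z, hQ' (mem_zpowers z), rfl⟩
  rw [← hQe] at hmem
  obtain ⟨a, -, hae⟩ := hmem
  have hao : orderOf a = r := by
    rw [← orderOf_injective ι hιi a, hae, show g * z * g⁻¹ = MulAut.conj g z from rfl,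
      MulEquiv.orderOf_eq, hz]
  have ha1 : a ≠ 1 := fun e => hr.ne_one (by rw [← hao, e, orderOf_one])
  have hcomm : Commute (g * y * g⁻¹) (f.D.emb (1, a)) := by
    have h1 : Commute (g * y * g⁻¹) (g * z * g⁻¹) := hzy.symm.map (MulAut.conj g).toMonoidHom
    rwa [← hae] at h1
  have hao' : orderOf a ∣ m := hao ▸ hrd
  have ht := H72.PiHom.commute_of_split h P f.D f.dt ha1 hao' hcomm
  obtain ⟨c, hc⟩ := f.D.exists_emb (g := g * y * g⁻¹)
    (by rw [f.dt]; exact mem_centralizer_singleton_iff.2 ht.eq)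
  obtain ⟨hau, hac, ha2⟩ := P.split_torus ha1 hao'
  have hca : Commute c.2 a := congrArg Prod.snd
    (f.D.emb_injective (by rw [map_mul, map_mul, hc]; exact hcomm.eq) :
      c * ((1 : Multiplicative (ZMod 2)), a) = ((1 : Multiplicative (ZMod 2)), a) * c)
  have hcm : c.2 ∈ cen a := H15.Ward.tor_centralizer hau (mem_cen_self a) ha2 hca
  have hc3 : orderOf c = 3 := by
    rw [← orderOf_injective f.D.emb f.D.emb_injective, hc,
      show g * y * g⁻¹ = MulAut.conj g y from rfl, MulEquiv.orderOf_eq, hy]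
  have hc1 : c.1 = 1 := H72.PiHom.fst_of_odd (F := F) (by rw [hc3]; decide)
  rw [Prod.orderOf, hc1, orderOf_one,
    Nat.lcm_one_left] at hc3
  have h3 := Subgroup.orderOf_dvd_natCard _ hcm
  rw [hc3, hac] at h3
  have := P.mod_three
  have := P.mod_eight
  omega

/-- The Sylow 3-subgroups meet trivially. -/
theorem sylow_three_inf (h : Hyp G F t) (P : ReeParam G F) (f : Frame G F t v)
    (hfpf : ∀ k ∈ f.P.K, f.P.w * k * f.P.w⁻¹ = k → k = 1)
    (hab : ∀ S : Sylow 3 G, IsMulCommutative ↥(S : Subgroup G))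
    {S S' : Sylow 3 G} (hne : S ≠ S') : (S : Subgroup G) ⊓ S' = ⊥ := by
  haveI : Fact (Nat.Prime 3) := ⟨Nat.prime_three⟩
  haveI : Fact (Nat.Prime 2) := ⟨Nat.prime_two⟩
  by_contra hD
  obtain ⟨⟨y, hyS, hyS'⟩, hy⟩ :=
    exists_prime_orderOf_dvd_card' (G := ↥((S : Subgroup G) ⊓ S')) 3 (by
      obtain ⟨k, hk⟩ := IsPGroup.iff_card.1 (S.isPGroup'.to_le (inf_le_left :
        (S : Subgroup G) ⊓ S' ≤ S))
      have hk0 : k ≠ 0 := fun e => hD (eq_bot_of_card_eq _ (by rw [hk, e, pow_zero]))
      exact hk ▸ dvd_pow_self 3 hk0)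
  rw [← Subgroup.orderOf_coe] at hy
  change orderOf y = 3 at hy
  obtain ⟨α, δ, ξ, e, e', -, hδ, hξ, hrel⟩ := exists_rows h P f hfpf
  set M := centralizer ({y} : Set G) with hM
  have hle : ∀ T : Sylow 3 G, y ∈ (T : Subgroup G) → (T : Subgroup G) ≤ M := fun T hT x hx =>
    mem_centralizer_singleton_iff.2 (congrArg Subtype.val ((hab T).1.comm ⟨x, hx⟩ ⟨y, hT⟩))
  have hSM := hle S hyS
  set q := Fintype.card F with hq
  have hq3 : ∃ k, q ^ 3 = 3 ^ k := by
    obtain ⟨m, -, hm⟩ := P.q_eq
    exact ⟨(2 * m + 1) * 3, by rw [hq, hm, ← pow_mul]⟩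
  -- prime divisors
  have hprimes : ∀ r, r.Prime → r ∣ Nat.card M → r = 2 ∨ r = 3 := by
    intro r hr hrd
    by_contra hr23
    push Not at hr23
    haveI : Fact r.Prime := ⟨hr⟩
    obtain ⟨⟨z, hzM⟩, hz⟩ := exists_prime_orderOf_dvd_card' (G := ↥M) r hrd
    rw [← Subgroup.orderOf_coe] at hz
    change orderOf z = r at hz
    have hzy : Commute z y := mem_centralizer_singleton_iff.1 hzM
    have hrG : r ∣ Nat.card G := hz ▸ orderOf_dvd_natCard z
    rw [P.card, ← hq] at hrG
    rcases hr.dvd_mul.1 hrG with hr' | hr'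
    · rcases hr.dvd_mul.1 hr' with hr'' | hr''
      · obtain ⟨k, hk⟩ := hq3
        rw [hk] at hr''
        exact hr23.2 ((Nat.prime_dvd_prime_iff_eq hr Nat.prime_three).1 (hr.dvd_of_dvd_pow hr''))
      · have hcop : Nat.Coprime (orderOf y) (orderOf z) := by
          rw [hy, hz]
          exact (Nat.coprime_primes Nat.prime_three hr).2 (Ne.symm hr23.2)
        have hord : orderOf (y * z) = 3 * r := by
          rw [hzy.symm.orderOf_mul_eq_mul_orderOf_of_coprime hcop, hy, hz]
        have h0 := hrel (y * z) (hord ▸ dvd_mul_right 3 r)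
        have hδ0 : (δ : G → ℂ) (y * z) = 0 := by
          refine vanish_of_degree δ Nat.prime_three ?_ (hord ▸ dvd_mul_right 3 r)
          rw [hδ]
          refine Nat.Coprime.dvd_of_dvd_mul_right (n := (q ^ 3 + 1) * (q - 1)) ?_ ?_
          · refine Nat.Coprime.pow_left _ (Nat.prime_three.coprime_iff_not_dvd.2 fun hd => ?_)
            have := P.mod_three
            have := P.big
            rcases Nat.prime_three.dvd_mul.1 hd with h3 | h3
            · have h3' : 3 ∣ q ^ 3 := dvd_pow (by omega : 3 ∣ q) (by norm_num)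
              omega
            · omega
          · rw [← mul_assoc, hq, ← P.card]
            exact Nat.ordProj_dvd _ _
        have hξ0 : (ξ : G → ℂ) (y * z) = 0 := by
          refine vanish_of_degree ξ hr ?_ (hord ▸ dvd_mul_left r 3)
          rw [hξ]
          refine Nat.Coprime.dvd_of_dvd_mul_right (n := q ^ 3 * (q - 1)) ?_ ?_
          · refine Nat.Coprime.pow_left _ (hr.coprime_iff_not_dvd.2 fun hd => ?_)
            rcases hr.dvd_mul.1 hd with h3 | h3
            · exact hr.not_dvd_one ((Nat.dvd_add_right h3).1 hr'')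
            · have hq1 : 1 ≤ q := Fintype.card_pos
              obtain ⟨k, hk⟩ : ∃ k, q = k + 1 := ⟨q - 1, by omega⟩
              have h4 : r ∣ k := by rwa [hk, Nat.add_sub_cancel] at h3
              rw [hk, show (k + 1) ^ 3 + 1 = k * (k * k + 3 * k + 3) + 2 by ring] at hr''
              exact hr23.1 ((Nat.prime_dvd_prime_iff_eq hr Nat.prime_two).1
                ((Nat.dvd_add_right (h4.mul_right _)).1 hr''))
          · rw [show (q ^ 3 + 1) * (q ^ 3 * (q - 1)) = q ^ 3 * (q ^ 3 + 1) * (q - 1) by ring, hq,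
              ← P.card]
            exact Nat.ordProj_dvd _ _
        rw [hδ0, hξ0] at h0
        simp at h0
    · refine not_commute_split h P f hr ?_ hy hz hzy
      have h2 : r.Coprime 2 := (Nat.coprime_primes hr Nat.prime_two).2 hr23.1
      have := P.mod_eight
      exact h2.dvd_of_dvd_mul_left (by rw [← hq, show 2 * ((q - 1) / 2) = q - 1 by omega]; exact hr')
  -- the part at two
  have h4 : ¬ 4 ∣ Nat.card M := fun hd => by
    obtain ⟨B, hB⟩ := Sylow.exists_subgroup_card_pow_prime (G := ↥M) 2 (n := 2) (by simpa using hd)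
    have hBp : IsPGroup 2 ↥(B.map M.subtype) := (IsPGroup.of_card hB).map _
    haveI : Fintype ↥B := Fintype.ofFinite _
    obtain ⟨a, ha⟩ : ∃ a : ↥B, a ≠ 1 := by
      refine @exists_ne _ (Finite.one_lt_card_iff_nontrivial.1 ?_) 1
      rw [hB]; norm_num
    obtain ⟨b, hb⟩ : ∃ b : ↥B, b ≠ 1 ∧ b ≠ a := by
      classical
      obtain ⟨b, hb⟩ : ∃ b : ↥B, b ∉ ({1, a} : Finset ↥B) := by
        by_contra hc
        simp only [not_exists, not_not] at hc
        have : Fintype.card ↥B ≤ 2 := (Finset.card_le_card fun z _ => hc z).trans Finset.card_le_two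
        rw [← Nat.card_eq_fintype_card, hB] at this
        omega
      exact ⟨b, fun e => hb (by simp [e]), fun e => hb (by simp [e])⟩
    have hinj : ∀ x : ↥B, ((x : ↥M) : G) = 1 → x = 1 := fun x hx => Subtype.ext (Subtype.ext hx)
    have := invol_unique h P hy
      (h.sq_of_two hBp (mem_map_of_mem _ a.2)) (fun e => ha (hinj a e))
      (h.sq_of_two hBp (mem_map_of_mem _ b.2)) (fun e => hb.1 (hinj b e))
      (h.comm_two hBp (mem_map_of_mem _ a.2) (mem_map_of_mem _ b.2))
      (mem_centralizer_singleton_iff.1 (a : ↥M).2) (mem_centralizer_singleton_iff.1 (b : ↥M).2)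
    exact hb.2 (Subtype.ext (Subtype.ext this.symm))
  -- so `S` has index at most two
  set SS := (S : Subgroup G).subgroupOf M with hSS
  have hi3 : ¬ 3 ∣ SS.index := fun hd => S.not_dvd_index (hd.trans
    (relIndex_dvd_index_of_le hSM))
  have hidx : SS.index ∣ 2 := by
    have hne : SS.index ≠ 0 := index_ne_zero_of_finite
    have hpow := Nat.eq_prime_pow_of_unique_prime_dvd hne (p := 2) fun {r} hr hrd =>
      (hprimes r hr (hrd.trans SS.index_dvd_card)).resolve_right (fun e => hi3 (e ▸ hrd))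
    rw [hpow]
    have hlt : SS.index.primeFactorsList.length ≤ 1 := by
      by_contra hc
      refine h4 ?_
      refine dvd_trans ?_ SS.index_dvd_card
      rw [hpow]
      exact (show (4 : ℕ) = 2 ^ 2 by norm_num) ▸ pow_dvd_pow 2 (by omega)
    exact (pow_dvd_pow 2 hlt).trans (by norm_num)
  have hzS : ∀ x ∈ (S' : Subgroup G), x ∈ (S : Subgroup G) := fun x hx => by
    have hxM := hle S' hyS' hx
    set xc : ↥M := ⟨x, hxM⟩
    have hodd : Odd (orderOf xc) := by
      rw [← Subgroup.orderOf_coe]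
      obtain ⟨k, hk⟩ := IsPGroup.iff_orderOf.1 S'.isPGroup' ⟨x, hx⟩
      show Odd (orderOf x)
      rw [← Subgroup.orderOf_coe] at hk
      rw [hk]
      exact Odd.pow (by decide)
    have hsq : xc ^ 2 ∈ SS := by
      rcases (Nat.dvd_prime Nat.prime_two).1 hidx with e | e
      · rw [index_eq_one.1 e]; exact mem_top _
      · rw [pow_two]; exact Subgroup.mul_self_mem_of_index_two e xc
    obtain ⟨k, hk⟩ := hodd
    have hx2 : (xc ^ 2) ^ (k + 1) = xc := by
      rw [← pow_mul, show 2 * (k + 1) = orderOf xc + 1 by omega, pow_succ, pow_orderOf_eq_one,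
        one_mul]
    have := pow_mem hsq (k + 1)
    rw [hx2] at this
    exact this
  refine hne (Sylow.ext (eq_of_le_of_card_ge hzS ?_).symm)
  rw [Nat.card_congr (S.equiv S').toEquiv]

end Cfsg.Agent.H80.WardCons
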